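import Groth.Agent.Triage.FibMaxFlat
import Groth.Agent.FibDim.BaseField
import Groth.Agent.FibDim.Comp
import Groth.Agent.FibDim.Minimal
import Mathlib.AlgebraicGeometry.Morphisms.UniversallyOpen

/-!
# Dimensions of flat morphisms of schemes of finite type over a field

For `f : X ⟶ Y` flat over a field, the relative degree of a maximal point `η` of `X` equals the
relative degree of every maximal point of a fibre below it, so the dimension of the component through
`η` is the dimension of the component of `Y` through `f η` plus that relative degree.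
-/

set_option autoImplicit false
set_option linter.style.haveILetI false
set_option backward.isDefEq.respectTransparency false
set_option backward.isDefEq.respectTransparency.types false

open AlgebraicGeometry CategoryTheory CategoryTheory.Limits Topology TopologicalSpace

namespace Groth.Agent.FlatDimHx

universe u

open Groth.Agent.FibDim

/-- A maximal point maps to a maximal point under a flat morphism. -/
theorem maximal_image {X Y : Scheme.{u}} (f : X ⟶ Y) [Flat f] {η : X}
    (h : ∀ z, z ⤳ η → z = η) : ∀ y, y ⤳ f η → y = f η := by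
  intro y hy
  obtain ⟨z, hz, hzy⟩ := Flat.generalizingMap f hy
  rw [← hzy, h z hz]

/-- Below a maximal point of a fibre of a flat morphism, relative degrees agree. -/
theorem rd_eq_of_specializes {X Y : Scheme.{u}} (f : X ⟶ Y) [Flat f] [LocallyOfFinitePresentation f]
    {η z : X} (h : η ⤳ z) (hη : FibMax f η) (hz : FibMax f z) : rd f η = rd f z := by
  have h1 := Triage.FibMaxFlat.fibreDimAt_eq_of_specializes f h hz
  rw [fibreDimAt_eq_rd f hη, fibreDimAt_eq_rd f hz] at h1
  exact_mod_cast h1

variable (k : Type u) [Field k] {X Y : Scheme.{u}}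
  (qX : X ⟶ Spec (CommRingCat.of k)) (qY : Y ⟶ Spec (CommRingCat.of k))
  [LocallyOfFiniteType qX] [LocallyOfFiniteType qY] (f : X ⟶ Y)

include qY in
theorem lfp_of_over (hf : f ≫ qY = qX) : LocallyOfFinitePresentation f := by
  haveI : IsLocallyNoetherian Y := LocallyOfFiniteType.isLocallyNoetherian qY
  subst hf
  haveI : LocallyOfFiniteType f := locallyOfFiniteType_of_comp f qY
  exact LocallyOfFinitePresentation.iff_locallyOfFiniteType.2 ‹_›

theorem dim_closure (x : X) :
    topologicalKrullDim ↥(closure ({x} : Set X)) = ((rd qX x : ℕ∞) : WithBot ℕ∞) :=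
  haveI := subsingleton_spec_field k
  topologicalKrullDim_closure qX x

theorem dim_irreducible [IrreducibleSpace X] :
    topologicalKrullDim ↥X = ((rd qX (genericPoint X) : ℕ∞) : WithBot ℕ∞) := by
  rw [← dim_closure k qX, genericPoint_closure]
  exact (Homeomorph.Set.univ X).isHomeomorph.topologicalKrullDim_eq.symm

theorem dim_closure_eq (hf : f ≫ qY = qX) [LocallyOfFiniteType f] (x : X) :
    topologicalKrullDim ↥(closure ({x} : Set X)) =
      ((rd qY (f x) + rd f x : ℕ) : WithBot ℕ∞) := by
  rw [dim_closure k qX]
  subst hf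
  rw [rd_comp]
  rfl

/-- All components of `X` over the components `Y` of dimension `d` have dimension `d + n` iff
all components of all fibres have dimension `n`. -/
theorem components_iff (hf : f ≫ qY = qX) [Flat f] (d n : ℕ)
    (hY : ∀ θ : Y, (∀ y, y ⤳ θ → y = θ) → rd qY θ = d) :
    (∀ Z ∈ irreducibleComponents ↥X, topologicalKrullDim ↥Z = ((d + n : ℕ) : WithBot ℕ∞)) ↔
      ∀ (y : Y), ∀ Z ∈ irreducibleComponents ↥(f.fiber y),
        topologicalKrullDim ↥Z = (n : WithBot ℕ∞) := by
  haveI := lfp_of_over k qX qY f hf
  constructor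
  · intro h y Z hZ
    obtain ⟨z, ⟨-, hz⟩, hd⟩ := (fiber_component_dims f y).subset ⟨Z, hZ, rfl⟩
    dsimp only at hd
    rw [← hd]
    obtain ⟨η, hη, hmax⟩ := exists_maximal_generization z
    have h1 := h _ (FDescent.closure_mem_irreducibleComponents hmax)
    rw [dim_closure_eq k qX qY f hf, hY _ (maximal_image f hmax),
      rd_eq_of_specializes f hη (fibMax_of_maximal f hmax) hz] at h1
    have h2 : d + rd f z = d + n := by exact_mod_cast h1
    simp only [Nat.add_left_cancel h2]
    rfl
  · intro h Z hZ
    obtain ⟨η, rfl, hmax⟩ := FDescent.exists_maximal_of_mem_irreducibleComponents hZ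
    rw [dim_closure_eq k qX qY f hf, hY _ (maximal_image f hmax)]
    obtain ⟨Z', hZ', hd⟩ := (fiber_component_dims f (f η)).symm.subset
      ⟨η, ⟨rfl, fibMax_of_maximal f hmax⟩, rfl⟩
    have h1 := h _ Z' hZ'
    dsimp only at hd
    rw [hd] at h1
    have h2 : rd f η = n := by exact_mod_cast h1
    rw [h2]

theorem rd_eq_of_irreducible [IrreducibleSpace Y] (θ : Y) (h : ∀ y, y ⤳ θ → y = θ) :
    topologicalKrullDim ↥Y = (rd qY θ : WithBot ℕ∞) := by
  rw [dim_irreducible k qY, h _ ((genericPoint_spec Y).specializes (Set.mem_univ θ))]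
  rfl

end Groth.Agent.FlatDimHx
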